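import Groth.Agent.FormalHom.Over
import Groth.Agent.MTBridge.NilConj
import Groth.Agent.MTBridge.EssFree
import Groth.Agent.MTDescent.CentralDescent

/-!
# Homomorphisms from finite groups of multiplicative type into smooth groups over complete local bases
-/

set_option autoImplicit false
set_option linter.style.haveILetI false
set_option linter.unusedSectionVars false
set_option backward.isDefEq.respectTransparency false
set_option maxHeartbeats 1000000
set_option synthInstance.maxHeartbeats 400000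

universe u

open CategoryTheory MonoidalCategory CartesianMonoidalCategory AlgebraicGeometry
open scoped MonObj
open Groth.Agent.MTBridge (qJ qJ_ext exists_factor_qJ push comp_push push_mul push_self mapToMk toBC fromBC toBC_fromBC fromBC_toBC fromBC_mul toBC_mul fromBC_comp fromBC_comp_map toBC_naturality)

noncomputable section

namespace Groth.Agent.FormalHom

variable {A : Type u} [CommRing A] {M G : Over (Spec (CommRingCat.of A))}

/-- the value of a pulled back morphism -/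
theorem push_map (u : M ⟶ G) {K : Ideal A} {Z : Over (Spec (CommRingCat.of A))} (p : Z ⟶ P K) (x : Z ⟶ M) :
    push ((Over.pullback (qJ K)).map u) p x = x ≫ u := by
  rw [push, fromBC_comp_map, fromBC_toBC, Category.assoc, Iso.inv_hom_id_assoc]

variable [GrpObj M] [GrpObj G]

/-- homomorphisms lift one step, compatibly -/
theorem exists_step (hM : SGA3x.IsMultTypeFT M) (hG : Smooth G.hom) {K K' : Ideal A} (hle : K' ≤ K)
    (hnil : IsNilpotent (K.map (Ideal.Quotient.mk K'))) (φ : Red.bc (qJ K) M ⟶ Red.bc (qJ K) G) [IsMonHom φ] :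
    ∃ φ' : Red.bc (qJ K') M ⟶ Red.bc (qJ K') G, IsMonHom φ' ∧
      ∀ (Z : Over (Spec (CommRingCat.of A))) (p : Z ⟶ P K) (p' : Z ⟶ P K') (x : Z ⟶ M),
        push φ' p' x = push φ p x := by
  let R := A ⧸ K'
  let J : Ideal R := K.map (Ideal.Quotient.mk K')
  let q := qJ K'
  let σ : A ⧸ K →+* R ⧸ J := Ideal.Quotient.lift K ((Ideal.Quotient.mk J).comp (Ideal.Quotient.mk K'))
    (fun a ha => Ideal.Quotient.eq_zero_iff_mem.2 (Ideal.mem_map_of_mem _ ha))
  let σ' : R ⧸ J →+* A ⧸ K := Ideal.Quotient.lift J (Ideal.Quotient.factor hle) (fun a ha => by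
    have h1 := Ideal.mem_map_of_mem (Ideal.Quotient.factor hle) ha
    rw [Ideal.map_map, Ideal.Quotient.factor_comp_mk, Ideal.map_quotient_self, Ideal.mem_bot] at h1
    exact h1)
  -- the point over `K` of a point over `J`
  let pY : ∀ Y : Over (Spec (CommRingCat.of (R ⧸ J))),
      (Over.map q).obj ((Over.map (qJ J)).obj Y) ⟶ P K := fun Y =>
    Over.homMk (Y.hom ≫ Spec.map (CommRingCat.ofHom σ)) (by
      show (Y.hom ≫ Spec.map _) ≫ Spec.map _ = (Y.hom ≫ Spec.map _) ≫ Spec.map _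
      rw [Category.assoc, Category.assoc, ← Spec.map_comp, ← Spec.map_comp]
      rfl)
  let y₀ := Red.bc (qJ J) (Red.bc q M)
  let f₀ : Red.bc (qJ J) (Red.bc q M) ⟶ Red.bc (qJ J) (Red.bc q G) :=
    toBC (qJ J) (toBC q (push φ (pY y₀) (fromBC q (fromBC (qJ J) (𝟙 y₀)))))
  have hf₀ : ∀ {Y : Over (Spec (CommRingCat.of (R ⧸ J)))} (a : Y ⟶ y₀),
      a ≫ f₀ = toBC (qJ J) (toBC q (push φ (pY Y) (fromBC q (fromBC (qJ J) a)))) := fun {Y} a => by
    simp only [f₀]
    rw [← toBC_naturality, ← toBC_naturality, comp_push φ _ (pY y₀) (pY Y), ← fromBC_comp, ← fromBC_comp,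
      Category.comp_id]
  haveI : IsMonHom f₀ := Groth.Agent.MTDescent.isMonHom_of_points _ fun Y a b => by
    rw [hf₀, hf₀, hf₀, fromBC_mul, fromBC_mul, push_mul, toBC_mul, toBC_mul]
  haveI : Smooth G.hom := hG
  obtain ⟨φ', hφ', hφ'J⟩ := MTBridge.exists_hom_lift_bc (H := Red.bc q M) (G := Red.bc q G) (J := J) hnil
    (MTBridge.locally_bc M q (MTBridge.locally_of_isMultTypeFT' M hM))
    (show Smooth (Limits.pullback.snd G.hom q) from inferInstance) f₀
  refine ⟨φ', hφ', fun Z p p' x => ?_⟩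
  let Y : Over (Spec (CommRingCat.of (R ⧸ J))) := Over.mk (p.left ≫ Spec.map (CommRingCat.ofHom σ'))
  let ε : (Over.map q).obj ((Over.map (qJ J)).obj Y) ≅ Z := Over.isoMk (Iso.refl _) (by
    show 𝟙 _ ≫ Z.hom = ((p.left ≫ Spec.map _) ≫ Spec.map _) ≫ Spec.map _
    simp only [Category.id_comp, Category.assoc]
    rw [← Over.w p, ← Spec.map_comp, ← Spec.map_comp]
    rfl)
  rw [← cancel_epi ε.hom, comp_push φ' ε.hom p' (mapToMk q _), comp_push φ ε.hom p (pY Y), push_self]
  generalize ε.hom ≫ x = x'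
  have h1 : toBC q x' = fromBC (qJ J) (toBC (qJ J) (toBC q x')) := (fromBC_toBC _ _).symm
  rw [h1, ← fromBC_comp_map, hφ'J, hf₀, fromBC_toBC, fromBC_toBC, fromBC_toBC, fromBC_toBC]

variable [IsLocalRing A] [IsNoetherianRing A] [IsAdicComplete (IsLocalRing.maximalIdeal A) A]

theorem isNilpotent_step (n : ℕ) : IsNilpotent ((thick A n).map (Ideal.Quotient.mk (thick A (n + 1)))) :=
  ⟨2, by
    rw [← Ideal.map_pow, Ideal.zero_eq_bot, Ideal.map_eq_bot_iff_le_ker, Ideal.mk_ker, ← pow_mul]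
    exact Ideal.pow_le_pow_right (by omega)⟩

/-- **Existence.** -/
theorem exists_hom_lift [IsFinite M.hom] (hM : SGA3x.IsMultTypeFT M) (hG : Smooth G.hom) (m₀ : Ideal A)
    (hm₀ : m₀ = thick A 0) (u₀ : Red.bc (qJ m₀) M ⟶ Red.bc (qJ m₀) G) [IsMonHom u₀] :
    ∃ u : M ⟶ G, IsMonHom u ∧ (Over.pullback (qJ m₀)).map u = u₀ := by
  subst hm₀
  classical
  let T : ℕ → Type u := fun n => { φ : Red.bc (qJ (thick A n)) M ⟶ Red.bc (qJ (thick A n)) G // IsMonHom φ }
  have hstep : ∀ n (t : T n), ∃ t' : T (n + 1), ∀ (Z : Over (Spec (CommRingCat.of A))) (p : Z ⟶ P (thick A n))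
      (p' : Z ⟶ P (thick A (n + 1))) (x : Z ⟶ M), push t'.1 p' x = push t.1 p x := fun n t => by
    haveI := t.2
    obtain ⟨φ', h1, h2⟩ := exists_step hM hG (thick_succ_le n) (isNilpotent_step n) t.1
    exact ⟨⟨φ', h1⟩, h2⟩
  choose next hnext using hstep
  let t : ∀ n, T n := fun n => Nat.rec ⟨u₀, ‹_›⟩ next n
  obtain ⟨u, hu⟩ := exists_of_family (X := M) (Y := G) (fun n {Z} p x => push (t n).1 p x)
    (fun n Z Z' b p p' x => comp_push _ b p p' x) (fun n Z p p' x => hnext n (t n) Z p p' x)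
  refine ⟨u, Groth.Agent.MTDescent.isMonHom_of_points _ fun X a b => ?_, ?_⟩
  · haveI : IsFinite (M ⊗ M).hom :=
      inferInstanceAs (IsFinite (Limits.pullback.fst M.hom M.hom ≫ M.hom))
    have key : (fst M M * snd M M) ≫ u = (fst M M ≫ u) * (snd M M ≫ u) := ext_of_forall _ _ fun n Z p z => by
      haveI := (t n).2
      rw [MonObj.comp_mul, ← Category.assoc, MonObj.comp_mul, ← Category.assoc, ← Category.assoc, hu n Z p, hu n Z p,
        hu n Z p, push_mul]
    have h := congrArg (lift a b ≫ ·) key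
    simp only [MonObj.comp_mul, ← Category.assoc, lift_fst, lift_snd] at h
    exact h
  · have h := hu 0 _ (mapToMk (qJ (thick A 0)) (Red.bc (qJ (thick A 0)) M)) (fromBC (qJ (thick A 0)) (𝟙 _))
    rw [push_self, toBC_fromBC, ← fromBC_comp_map, Category.id_comp, Category.id_comp] at h
    have h2 := congrArg (toBC (qJ (thick A 0))) h
    rwa [toBC_fromBC, toBC_fromBC] at h2

/-- **Conjugacy.** -/
theorem exists_conj (hM : SGA3x.IsMultTypeFT M) [IsFinite M.hom] (hG : Smooth G.hom) (m₀ : Ideal A)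
    (hm₀ : m₀ = thick A 0) (u u' : M ⟶ G) [IsMonHom u] [IsMonHom u']
    (h : (Over.pullback (qJ m₀)).map u = (Over.pullback (qJ m₀)).map u') :
    ∃ g : 𝟙_ (Over (Spec (CommRingCat.of A))) ⟶ G,
      (Over.pullback (qJ m₀)).map g = toUnit _ ≫ η[Red.bc (qJ m₀) G] ∧
      ∀ (X : Over (Spec (CommRingCat.of A))) (x : X ⟶ M),
        x ≫ u' = (toUnit X ≫ g) * (x ≫ u) * (toUnit X ≫ g)⁻¹ := by
  subst hm₀
  classical
  let T : ℕ → Type u := fun n => { g : P (thick A n) ⟶ G //
    ∀ (X : Over (Spec (CommRingCat.of A))) (p : X ⟶ P (thick A n)) (h : X ⟶ M),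
      h ≫ u' = (p ≫ g) * (h ≫ u) * (p ≫ g)⁻¹ }
  have hstep : ∀ n (t : T n), ∃ t' : T (n + 1),
      ∀ ρ : P (thick A n) ⟶ P (thick A (n + 1)), ρ ≫ t'.1 = t.1 := fun n t => by
    obtain ⟨g', h1, h2⟩ := MTBridge.exists_conj_step (MTBridge.locally_of_isMultTypeFT' M hM) hG u u'
      (thick_succ_le n) (by rw [← pow_mul]; exact Ideal.pow_le_pow_right (by omega)) t.1 t.2
    exact ⟨⟨g', h2⟩, h1⟩
  choose next hnext using hstep
  let t₀ : T 0 := ⟨1, fun X p x => by
    rw [MonObj.comp_one, one_mul, inv_one, mul_one, ← push_map u p x, ← push_map u' p x, h]⟩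
  let t : ∀ n, T n := fun n => Nat.rec t₀ next n
  haveI : IsFinite (𝟙_ (Over (Spec (CommRingCat.of A)))).hom := inferInstanceAs (IsFinite (𝟙 _))
  obtain ⟨g, hg⟩ := exists_of_family (X := 𝟙_ (Over (Spec (CommRingCat.of A)))) (Y := G)
    (fun n {Z} p _ => p ≫ (t n).1)
    (fun n Z Z' b p p' x => by rw [← Category.assoc, qJ_ext (b ≫ p) p'])
    (fun n Z p p' x => by
      obtain ⟨ρ⟩ := exists_factor_qJ (thick_succ_le (A := A) n)
      show p' ≫ (next n (t n)).1 = p ≫ (t n).1
      rw [← hnext n (t n) ρ, ← Category.assoc, qJ_ext (p ≫ ρ) p'])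
  refine ⟨g, ?_, fun X x => ?_⟩
  · have h1 := hg 0 _ (mapToMk (qJ (thick A 0)) (Red.bc (qJ (thick A 0)) (𝟙_ _))) (fromBC (qJ (thick A 0)) (𝟙 _))
    rw [show (t 0).1 = 1 from rfl, MonObj.comp_one, ← fromBC_comp_map, Category.id_comp] at h1
    have h2 := congrArg (toBC (qJ (thick A 0))) h1
    rw [toBC_fromBC] at h2
    rw [h2, ← Hom.one_def]
    exact (congrArg (toBC _) (MTBridge.fromBC_one _).symm).trans (toBC_fromBC _ _)
  · have key : u' = (toUnit M ≫ g) * u * (toUnit M ≫ g)⁻¹ := ext_of_forall _ _ fun n Z p z => by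
      rw [MonObj.comp_mul, MonObj.comp_mul, GrpObj.comp_inv, ← Category.assoc, comp_toUnit, hg n Z p]
      exact (t n).2 Z p z
    have h := congrArg (x ≫ ·) key
    simpa only [MonObj.comp_mul, GrpObj.comp_inv, ← Category.assoc, comp_toUnit] using h

end Groth.Agent.FormalHom
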