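import Groth.Agent.S17863
import Groth.Agent.FinComplete.Basic
import Mathlib

/-!
# Morphisms out of the spectrum of a finite algebra over a complete Noetherian local ring
-/

set_option autoImplicit false
set_option linter.style.haveILetI false
set_option backward.isDefEq.respectTransparency false

universe u

open CategoryTheory CategoryTheory.Limits AlgebraicGeometry IsLocalRing

noncomputable section

namespace Groth.Agent.FormalHom

/-- a morphism from a local scheme lands in any open containing the image of the closed point -/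
theorem range_subset_of_local {R : Type u} [CommRing R] [IsLocalRing R] {X : Scheme.{u}}
    (f : Spec (CommRingCat.of R) ⟶ X) {U : X.Opens} (h : f  (closedPoint R) ∈ U) :
    Set.range f  ⊆ (U : Set X) := by
  rintro _ ⟨p, rfl⟩
  exact ((IsLocalRing.specializes_closedPoint p).map f.continuous).mem_open U.isOpen h

/-- `X(B) = lim X(B/I^n)` for a complete local ring `B` and an arbitrary scheme `X` -/
theorem local_bijective (B : Type u) [CommRing B] [IsLocalRing B] (I : Ideal B) [IsAdicComplete I B] (hI : I ≠ ⊤)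
    (K : ℕ → Ideal B) (hK : ∀ n, K n = I ^ n) (X : Scheme.{u}) :
    (∀ f g : Spec (CommRingCat.of B) ⟶ X,
      (∀ n : ℕ, Spec.map (CommRingCat.ofHom (Ideal.Quotient.mk (K n))) ≫ f =
        Spec.map (CommRingCat.ofHom (Ideal.Quotient.mk (K n))) ≫ g) → f = g) ∧
    (∀ (u : ∀ n : ℕ, Spec (CommRingCat.of (B ⧸ K n)) ⟶ X) (hle : ∀ n, K (n + 1) ≤ K n),
      (∀ n : ℕ, Spec.map (CommRingCat.ofHom (Ideal.Quotient.factor (hle n))) ≫ u (n + 1) = u n) →
      ∃ f : Spec (CommRingCat.of B) ⟶ X,
        ∀ n : ℕ, Spec.map (CommRingCat.ofHom (Ideal.Quotient.mk (K n))) ≫ f = u n) := by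
  obtain rfl : K = fun n => I ^ n := funext hK
  haveI : Nontrivial (B ⧸ I ^ 1) := Ideal.Quotient.nontrivial_iff.2 (by rwa [pow_one])
  haveI : IsLocalRing (B ⧸ I ^ 1) := IsLocalRing.of_surjective' _ Ideal.Quotient.mk_surjective
  haveI : IsLocalHom (Ideal.Quotient.mk (I ^ 1)) := IsLocalHom.of_surjective _ Ideal.Quotient.mk_surjective
  have hq₁ : (Spec.map (CommRingCat.ofHom (Ideal.Quotient.mk (I ^ 1)))) (closedPoint (B ⧸ I ^ 1)) = closedPoint B :=
    (Spec.map_apply _ _).trans (IsLocalRing.comap_closedPoint (Ideal.Quotient.mk (I ^ 1)))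
  constructor
  · intro f g h
    obtain ⟨U, hU, hyU, -⟩ := exists_isAffineOpen_mem_and_subset (x := f  (closedPoint B)) (U := ⊤) trivial
    haveI : IsAffine U.toScheme := hU
    have hg : g  (closedPoint B) ∈ U := by
      have e := congrArg (fun m : _ ⟶ X => m (closedPoint (B ⧸ I ^ 1))) (h 1)
      simp only [Scheme.Hom.comp_apply] at e
      rw [hq₁] at e
      rwa [← e]
    have hf' : Set.range f  ⊆ Set.range U.ι  := by rw [Scheme.Opens.range_ι]; exact range_subset_of_local f hyU
    have hg' : Set.range g  ⊆ Set.range U.ι  := by rw [Scheme.Opens.range_ι]; exact range_subset_of_local g hg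
    rw [← IsOpenImmersion.lift_fac U.ι f hf', ← IsOpenImmersion.lift_fac U.ι g hg']
    refine congrArg (· ≫ U.ι) ((S17863.result B I U.toScheme).1 _ _ fun n => ?_)
    rw [← cancel_mono U.ι, Category.assoc, Category.assoc, IsOpenImmersion.lift_fac, IsOpenImmersion.lift_fac]
    exact h n
  · intro u hle hu
    obtain ⟨U, hU, hyU, -⟩ := exists_isAffineOpen_mem_and_subset
      (x := (u 1)  (closedPoint (B ⧸ I ^ 1))) (U := ⊤) trivial
    haveI : IsAffine U.toScheme := hU
    have hr : ∀ n, Set.range (u n)  ⊆ Set.range U.ι  := by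
      intro n
      rw [Scheme.Opens.range_ι]
      match n with
      | 0 =>
        rintro _ ⟨p, rfl⟩
        haveI : Subsingleton (B ⧸ I ^ 0) := Ideal.Quotient.subsingleton_iff.2 (by simp)
        exact ((p : PrimeSpectrum (B ⧸ I ^ 0)).2.ne_top (Subsingleton.elim _ _)).elim
      | n + 1 =>
        haveI : Nontrivial (B ⧸ I ^ (n + 1)) := Ideal.Quotient.nontrivial_iff.2 fun h =>
          hI (top_le_iff.1 (h.ge.trans (Ideal.pow_le_self (Nat.succ_ne_zero n))))
        haveI : IsLocalRing (B ⧸ I ^ (n + 1)) := IsLocalRing.of_surjective' _ Ideal.Quotient.mk_surjective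
        refine range_subset_of_local (u (n + 1)) ?_
        have key : ∀ m (h1 : I ^ (m + 1) ≤ I ^ 1) (_ : Nontrivial (B ⧸ I ^ (m + 1))),
            Spec.map (CommRingCat.ofHom (Ideal.Quotient.factor h1)) ≫ u (m + 1) = u 1 := by
          intro m
          induction m with
          | zero => intro h1 _; simp
          | succ m ih =>
            intro h1 _
            haveI : Nontrivial (B ⧸ I ^ (m + 1)) := Ideal.Quotient.nontrivial_iff.2 fun h =>
              hI (top_le_iff.1 (h.ge.trans (Ideal.pow_le_self (Nat.succ_ne_zero m))))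
            rw [← ih (Ideal.pow_le_pow_right (by omega)) inferInstance, ← hu (m + 1), ← Category.assoc,
              ← Spec.map_comp, ← CommRingCat.ofHom_comp, Ideal.Quotient.factor_comp]
        have h1 : I ^ (n + 1) ≤ I ^ 1 := Ideal.pow_le_pow_right (by omega)
        haveI : IsLocalHom (Ideal.Quotient.factor h1) :=
          IsLocalHom.of_surjective _ (Ideal.Quotient.factor_surjective h1)
        have e := congrArg (fun m : _ ⟶ X => m (closedPoint (B ⧸ I ^ 1))) (key n h1 inferInstance)
        simp only [Scheme.Hom.comp_apply] at e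
        rw [show (Spec.map (CommRingCat.ofHom (Ideal.Quotient.factor h1))) (closedPoint (B ⧸ I ^ 1)) =
          closedPoint _ from IsLocalRing.comap_closedPoint (Ideal.Quotient.factor h1)] at e
        rw [e]
        exact hyU
    obtain ⟨f, hf⟩ := (S17863.result B I U.toScheme).2 (fun n => IsOpenImmersion.lift U.ι (u n) (hr n)) fun n => by
      rw [← cancel_mono U.ι, Category.assoc, IsOpenImmersion.lift_fac, IsOpenImmersion.lift_fac]
      exact hu n
    exact ⟨f ≫ U.ι, fun n => by rw [← Category.assoc, hf, IsOpenImmersion.lift_fac]⟩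

/-- killing `1 - e` for an idempotent `e` gives an open immersion -/
theorem isOpenImmersion_of_ker {R T : Type u} [CommRing R] [CommRing T] (φ : R →+* T) {e : R}
    (he : IsIdempotentElem e) (hs : Function.Surjective φ) (hk : RingHom.ker φ = Ideal.span {1 - e}) :
    IsOpenImmersion (Spec.map (CommRingCat.ofHom φ)) := by
  letI := φ.toAlgebra
  haveI : IsLocalization.Away e T := IsLocalization.away_of_isIdempotentElem he hk hs
  exact IsOpenImmersion.of_isLocalization e

theorem range_spec {R T : Type u} [CommRing R] [CommRing T] (φ : R →+* T) {e : R}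
    (hs : Function.Surjective φ) (hk : RingHom.ker φ = Ideal.span {1 - e}) :
    Set.range (Spec.map (CommRingCat.ofHom φ))  = {p | 1 - e ∈ p.asIdeal} := by
  show Set.range (PrimeSpectrum.comap φ) = _
  rw [range_comap_of_surjective _ _ hs, hk, PrimeSpectrum.zeroLocus_span]
  exact Set.ext fun p => Set.singleton_subset_iff

section Semilocal

variable (A : Type u) [CommRing A] [IsLocalRing A] [IsNoetherianRing A] [IsAdicComplete (maximalIdeal A) A]
  (B : Type u) [CommRing B] [Algebra A B] [Module.Finite A B]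

/-- an idempotent selecting the component of `M` -/
def idem (M : MaximalSpectrum B) : B := (FinComplete.exists_idempotent (R := A) M).choose

theorem idem_spec (M : MaximalSpectrum B) : IsIdempotentElem (idem A B M) ∧ idem A B M ∉ M.asIdeal ∧
    ∀ N : MaximalSpectrum B, N ≠ M → idem A B M ∈ N.asIdeal :=
  (FinComplete.exists_idempotent (R := A) M).choose_spec

theorem exists_mem (p : PrimeSpectrum B) : ∃ M : MaximalSpectrum B, 1 - idem A B M ∈ p.asIdeal := by
  obtain ⟨Q, hQ, hpQ⟩ := Ideal.exists_le_maximal p.asIdeal p.2.ne_top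
  refine ⟨⟨Q, hQ⟩, (p.2.mem_or_mem (x := idem A B ⟨Q, hQ⟩) ?_).resolve_left fun h => (idem_spec A B ⟨Q, hQ⟩).2.1 (hpQ h)⟩
  rw [mul_sub, mul_one, (idem_spec A B ⟨Q, hQ⟩).1.eq, sub_self]
  exact zero_mem _

theorem eq_of_mem {Q : Ideal B} (hQ : Q.IsMaximal) (M : MaximalSpectrum B) (h : 1 - idem A B M ∈ Q) :
    (⟨Q, hQ⟩ : MaximalSpectrum B) = M := by
  by_contra hne
  exact hQ.ne_top ((Ideal.eq_top_iff_one _).2 (by simpa using add_mem h ((idem_spec A B M).2.2 _ hne)))

theorem eq_of_mem_both (p : PrimeSpectrum B) {M N : MaximalSpectrum B}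
    (hM : 1 - idem A B M ∈ p.asIdeal) (hN : 1 - idem A B N ∈ p.asIdeal) : M = N := by
  obtain ⟨Q, hQ, hpQ⟩ := Ideal.exists_le_maximal p.asIdeal p.2.ne_top
  exact (eq_of_mem A B hQ M (hpQ hM)).symm.trans (eq_of_mem A B hQ N (hpQ hN))

abbrev Piece (M : MaximalSpectrum B) : Type u := B ⧸ Ideal.span {1 - idem A B M}

abbrev pieceHom (M : MaximalSpectrum B) : B →+* Piece A B M := Ideal.Quotient.mk _

theorem isLocalRing_piece (M : MaximalSpectrum B) : IsLocalRing (Piece A B M) := by
  have h1 : 1 - idem A B M ∈ M.asIdeal :=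
    (M.isMaximal.isPrime.mem_or_mem (x := idem A B M) (y := 1 - idem A B M)
      (by rw [mul_sub, mul_one, (idem_spec A B M).1.eq, sub_self]; exact zero_mem _)).resolve_left (idem_spec A B M).2.1
  have hker : RingHom.ker (pieceHom A B M) = Ideal.span {1 - idem A B M} := Ideal.mk_ker
  haveI := M.isMaximal
  refine IsLocalRing.of_unique_max_ideal ⟨M.asIdeal.map (pieceHom A B M),
    (Ideal.map_eq_top_or_isMaximal_of_surjective _ Ideal.Quotient.mk_surjective M.isMaximal).resolve_left ?_,
    fun Q hQ => ?_⟩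
  · intro h
    have h2 := congrArg (Ideal.comap (pieceHom A B M)) h
    rw [Ideal.comap_map_of_surjective (pieceHom A B M) Ideal.Quotient.mk_surjective, Ideal.comap_top,
      ← RingHom.ker_eq_comap_bot, hker] at h2
    refine M.isMaximal.ne_top (top_le_iff.1 (h2.ge.trans (sup_le le_rfl ?_)))
    exact (Ideal.span_singleton_le_iff_mem M.asIdeal).2 h1
  · haveI := hQ
    have hc : (Q.comap (pieceHom A B M)).IsMaximal :=
      Ideal.comap_isMaximal_of_surjective _ Ideal.Quotient.mk_surjective
    have hm : 1 - idem A B M ∈ Q.comap (pieceHom A B M) := by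
      show pieceHom A B M (1 - idem A B M) ∈ Q
      rw [show pieceHom A B M (1 - idem A B M) = 0 from Ideal.Quotient.eq_zero_iff_mem.2 (Ideal.mem_span_singleton_self _)]
      exact zero_mem _
    have h3 := congrArg MaximalSpectrum.asIdeal (eq_of_mem A B hc M hm)
    rw [← h3]
    exact (Ideal.map_comap_of_surjective _ Ideal.Quotient.mk_surjective Q).symm

variable (K : ℕ → Ideal B)

abbrev K' (M : MaximalSpectrum B) (n : ℕ) : Ideal (Piece A B M) := (K n).map (pieceHom A B M)

def quotHom (M : MaximalSpectrum B) (n : ℕ) : B ⧸ K n →+* Piece A B M ⧸ K' A B K M n :=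
  Ideal.quotientMap _ (pieceHom A B M) Ideal.le_comap_map

theorem quotHom_comp (M : MaximalSpectrum B) (n : ℕ) : (quotHom A B K M n).comp (Ideal.Quotient.mk (K n)) =
    (Ideal.Quotient.mk (K' A B K M n)).comp (pieceHom A B M) :=
  Ideal.quotientMap_comp_mk _

theorem quotHom_surjective (M : MaximalSpectrum B) (n : ℕ) : Function.Surjective (quotHom A B K M n) :=
  Ideal.quotientMap_surjective Ideal.Quotient.mk_surjective

theorem ker_quotHom (M : MaximalSpectrum B) (n : ℕ) :
    RingHom.ker (quotHom A B K M n) = Ideal.span {1 - Ideal.Quotient.mk (K n) (idem A B M)} := by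
  have h : (RingHom.ker (quotHom A B K M n)).comap (Ideal.Quotient.mk (K n)) =
      (Ideal.span {1 - Ideal.Quotient.mk (K n) (idem A B M)}).comap (Ideal.Quotient.mk (K n)) := by
    rw [RingHom.comap_ker, quotHom_comp, ← RingHom.comap_ker, Ideal.mk_ker,
      Ideal.comap_map_of_surjective (pieceHom A B M) Ideal.Quotient.mk_surjective, ← RingHom.ker_eq_comap_bot,
      show Ideal.span {(1 : B ⧸ K n) - Ideal.Quotient.mk (K n) (idem A B M)} =
        (Ideal.span {1 - idem A B M}).map (Ideal.Quotient.mk (K n)) by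
          rw [Ideal.map_span, Set.image_singleton, map_sub, map_one],
      Ideal.comap_map_of_surjective _ Ideal.Quotient.mk_surjective,
      ← RingHom.ker_eq_comap_bot, Ideal.mk_ker, sup_comm]
    rw [Ideal.mk_ker]
  exact Ideal.comap_injective_of_surjective _ Ideal.Quotient.mk_surjective h

/-- the cover of `Spec (B / K n)` by the local pieces -/
def coverN (n : ℕ) : (Spec (CommRingCat.of (B ⧸ K n))).OpenCover :=
  Scheme.Cover.mkOfCovers (MaximalSpectrum B) (fun M => Spec (CommRingCat.of (Piece A B M ⧸ K' A B K M n)))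
    (fun M => Spec.map (CommRingCat.ofHom (quotHom A B K M n)))
    (fun p => by
      obtain ⟨M, hM⟩ := exists_mem A B (PrimeSpectrum.comap (Ideal.Quotient.mk (K n)) p)
      have : p ∈ Set.range (Spec.map (CommRingCat.ofHom (quotHom A B K M n)))  := by
        rw [range_spec _ (quotHom_surjective A B K M n) (ker_quotHom A B K M n)]
        show 1 - Ideal.Quotient.mk (K n) (idem A B M) ∈ p.asIdeal
        rw [← map_one (Ideal.Quotient.mk (K n)), ← map_sub]
        exact hM
      obtain ⟨q, hq⟩ := this
      exact ⟨M, q, hq⟩)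
    (fun M => isOpenImmersion_of_ker _ ((idem_spec A B M).1.map _) (quotHom_surjective A B K M n)
      (ker_quotHom A B K M n))

/-- the cover of `Spec B` by the local pieces -/
def cover : (Spec (CommRingCat.of B)).OpenCover :=
  Scheme.Cover.mkOfCovers (MaximalSpectrum B) (fun M => Spec (CommRingCat.of (Piece A B M)))
    (fun M => Spec.map (CommRingCat.ofHom (pieceHom A B M)))
    (fun p => by
      obtain ⟨M, hM⟩ := exists_mem A B p
      have : p ∈ Set.range (Spec.map (CommRingCat.ofHom (pieceHom A B M)))  := by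
        rw [range_spec (pieceHom A B M) Ideal.Quotient.mk_surjective Ideal.mk_ker]
        exact hM
      obtain ⟨q, hq⟩ := this
      exact ⟨M, q, hq⟩)
    (fun M => isOpenImmersion_of_ker _ (idem_spec A B M).1 Ideal.Quotient.mk_surjective Ideal.mk_ker)

/-- `X(B) = lim X(B/mⁿB)` for a finite algebra over a complete Noetherian local ring -/
theorem finite_bijective (hK : ∀ n, K n = ((maximalIdeal A) ^ n).map (algebraMap A B)) (X : Scheme.{u}) :
    (∀ f g : Spec (CommRingCat.of B) ⟶ X,
      (∀ n : ℕ, Spec.map (CommRingCat.ofHom (Ideal.Quotient.mk (K n))) ≫ f =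
        Spec.map (CommRingCat.ofHom (Ideal.Quotient.mk (K n))) ≫ g) → f = g) ∧
    (∀ (u : ∀ n : ℕ, Spec (CommRingCat.of (B ⧸ K n)) ⟶ X) (hle : ∀ n, K (n + 1) ≤ K n),
      (∀ n : ℕ, Spec.map (CommRingCat.ofHom (Ideal.Quotient.factor (hle n))) ≫ u (n + 1) = u n) →
      ∃ f : Spec (CommRingCat.of B) ⟶ X,
        ∀ n : ℕ, Spec.map (CommRingCat.ofHom (Ideal.Quotient.mk (K n))) ≫ f = u n) := by
  let I : ∀ M, Ideal (Piece A B M) := fun M => (maximalIdeal A).map (algebraMap A (Piece A B M))
  haveI hloc : ∀ M, IsLocalRing (Piece A B M) := fun M => isLocalRing_piece A B M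
  haveI hcomp : ∀ M, IsAdicComplete (I M) (Piece A B M) := fun M => FinComplete.isAdicComplete_map A (Piece A B M)
  have hI : ∀ M, I M ≠ ⊤ := fun M h => (IsLocalRing.maximalIdeal.isMaximal (Piece A B M)).ne_top
    (top_le_iff.1 (h.ge.trans (FinComplete.map_le_maximal A (Piece A B M) (IsLocalRing.maximalIdeal (Piece A B M)))))
  have hK' : ∀ M n, K' A B K M n = I M ^ n := fun M n => by
    show (K n).map (pieceHom A B M) = _
    rw [hK, Ideal.map_map, ← Ideal.map_pow]
    rfl
  have hsq : ∀ M n, Spec.map (CommRingCat.ofHom (Ideal.Quotient.mk (K' A B K M n))) ≫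
      Spec.map (CommRingCat.ofHom (pieceHom A B M)) =
      Spec.map (CommRingCat.ofHom (quotHom A B K M n)) ≫ Spec.map (CommRingCat.ofHom (Ideal.Quotient.mk (K n))) := by
    intro M n
    rw [← Spec.map_comp, ← Spec.map_comp, ← CommRingCat.ofHom_comp, ← CommRingCat.ofHom_comp, quotHom_comp]
  constructor
  · intro f g h
    refine (cover A B).hom_ext _ _ fun M => (local_bijective (Piece A B M) (I M) (hI M) _ (hK' M) X).1 _ _ fun n => ?_
    show _ ≫ Spec.map (CommRingCat.ofHom (pieceHom A B M)) ≫ f = _ ≫ Spec.map (CommRingCat.ofHom (pieceHom A B M)) ≫ g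
    rw [reassoc_of% hsq M n, reassoc_of% hsq M n, h n]
  · intro u hle hu
    have hloc' : ∀ M, ∃ f : Spec (CommRingCat.of (Piece A B M)) ⟶ X, ∀ n,
        Spec.map (CommRingCat.ofHom (Ideal.Quotient.mk (K' A B K M n))) ≫ f =
          Spec.map (CommRingCat.ofHom (quotHom A B K M n)) ≫ u n := fun M => by
      refine (local_bijective (Piece A B M) (I M) (hI M) _ (hK' M) X).2
        (fun n => Spec.map (CommRingCat.ofHom (quotHom A B K M n)) ≫ u n) (fun n => Ideal.map_mono (hle n)) fun n => ?_
      rw [← hu n, ← Category.assoc, ← Category.assoc, ← Spec.map_comp, ← Spec.map_comp, ← CommRingCat.ofHom_comp,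
        ← CommRingCat.ofHom_comp]
      congr 3
      exact Ideal.Quotient.ringHom_ext (RingHom.ext fun x => rfl)
    choose F hF using hloc'
    refine ⟨(cover A B).glueMorphisms F fun M N => ?_, fun n => (coverN A B K n).hom_ext _ _ fun M => ?_⟩
    · by_cases hMN : M = N
      · subst hMN
        haveI : Mono ((cover A B).f M) := inferInstance
        rw [fst_eq_snd_of_mono_eq ((cover A B).f M)]
      · haveI : IsEmpty ↑(pullback ((cover A B).f M) ((cover A B).f N)) := ⟨fun z => hMN <| by
          let p := ((cover A B).f M)  ((pullback.fst ((cover A B).f M) ((cover A B).f N))  z)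
          have hpM : p ∈ Set.range (Spec.map (CommRingCat.ofHom (pieceHom A B M)))  := ⟨_, rfl⟩
          have hpN : p ∈ Set.range (Spec.map (CommRingCat.ofHom (pieceHom A B N)))  := by
            refine ⟨(pullback.snd ((cover A B).f M) ((cover A B).f N))  z, ?_⟩
            exact congrArg (fun m : _ ⟶ Spec (CommRingCat.of B) => m z)
              (pullback.condition (f := (cover A B).f M) (g := (cover A B).f N)).symm
          rw [range_spec (pieceHom A B M) Ideal.Quotient.mk_surjective Ideal.mk_ker] at hpM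
          rw [range_spec (pieceHom A B N) Ideal.Quotient.mk_surjective Ideal.mk_ker] at hpN
          exact eq_of_mem_both A B p hpM hpN⟩
        exact (isInitialOfIsEmpty (X := pullback ((cover A B).f M) ((cover A B).f N))).hom_ext _ _
    · show Spec.map (CommRingCat.ofHom (quotHom A B K M n)) ≫ _ ≫ _ = Spec.map (CommRingCat.ofHom (quotHom A B K M n)) ≫ u n
      rw [← reassoc_of% hsq M n]
      exact (congrArg (_ ≫ ·) ((cover A B).ι_glueMorphisms F _ M)).trans (hF M n)

end Semilocal

end Groth.Agent.FormalHom
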