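import Groth.Agent.FormalHom.HomLift
import Groth.Agent.CentralLift.Lift
import Groth.Agent.MTBridge.CentralNhd
import Mathlib

/-!
# Central homomorphisms from finite etale groups of multiplicative type over complete local bases
-/

set_option autoImplicit false
set_option linter.style.haveILetI false
set_option linter.unusedSectionVars false
set_option backward.isDefEq.respectTransparency false
set_option maxHeartbeats 1000000
set_option synthInstance.maxHeartbeats 400000

universe u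

open CategoryTheory MonoidalCategory CartesianMonoidalCategory AlgebraicGeometry
open scoped MonObj
open Groth.Agent.MTBridge (qJ qJ_ext exists_factor_qJ push comp_push push_mul push_self mapToMk toBC fromBC toBC_fromBC fromBC_toBC fromBC_mul toBC_mul fromBC_comp fromBC_comp_map toBC_naturality)

noncomputable section

namespace Groth.Agent.FormalHom

variable {A : Type u} [CommRing A] {M G : Over (Spec (CommRingCat.of A))} [GrpObj M] [GrpObj G]

/-- centrality of a morphism of reductions, on points -/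
def Central {K : Ideal A} (φ : Red.bc (qJ K) M ⟶ Red.bc (qJ K) G) : Prop :=
  ∀ (Z : Over (Spec (CommRingCat.of A))) (p : Z ⟶ P K) (a : Z ⟶ M) (g : Z ⟶ G), g * push φ p a = push φ p a * g

theorem central_iff {K : Ideal A} (φ : Red.bc (qJ K) M ⟶ Red.bc (qJ K) G) [IsMonHom φ] :
    Central φ ↔ ∀ (X : Over (Spec (CommRingCat.of (A ⧸ K)))) (x : X ⟶ Red.bc (qJ K) M) (g : X ⟶ Red.bc (qJ K) G),
      (x ≫ φ) * g = g * (x ≫ φ) := by
  constructor
  · intro h X x g
    have h1 := congrArg (toBC (qJ K)) (h _ (mapToMk (qJ K) X) (fromBC (qJ K) x) (fromBC (qJ K) g))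
    rw [push_self, toBC_mul, toBC_mul, toBC_fromBC, toBC_fromBC, toBC_fromBC] at h1
    exact h1.symm
  · intro h Z p a g
    rw [← cancel_epi (MTBridge.mapIso' p).hom, MonObj.comp_mul, MonObj.comp_mul, push, Iso.hom_inv_id_assoc]
    apply MTBridge.toBC_inj (qJ K)
    rw [toBC_mul, toBC_mul, toBC_fromBC]
    exact (h _ _ _).symm

variable [Flat G.hom] [LocallyOfFinitePresentation G.hom] [IsFinite M.hom] [Smooth M.hom]

/-- central homomorphisms lift one step, uniquely -/
theorem exists_central_step (hM : SGA3x.IsMultTypeFT M) {K K' : Ideal A} (hle : K' ≤ K)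
    (hnil : ∀ x ∈ K.map (Ideal.Quotient.mk K'), IsNilpotent x) (φ : Red.bc (qJ K) M ⟶ Red.bc (qJ K) G) [IsMonHom φ]
    (hc : Central φ) :
    ∃ φ' : Red.bc (qJ K') M ⟶ Red.bc (qJ K') G, IsMonHom φ' ∧ Central φ' ∧
      (∀ (Z : Over (Spec (CommRingCat.of A))) (p : Z ⟶ P K) (p' : Z ⟶ P K') (x : Z ⟶ M),
        push φ' p' x = push φ p x) ∧
      ∀ u' : M ⟶ G, IsMonHom u' → (Over.pullback (qJ K)).map u' = φ → (Over.pullback (qJ K')).map u' = φ' := by
  let R := A ⧸ K'
  let J : Ideal R := K.map (Ideal.Quotient.mk K')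
  let q := qJ K'
  let σ : A ⧸ K →+* R ⧸ J := Ideal.Quotient.lift K ((Ideal.Quotient.mk J).comp (Ideal.Quotient.mk K'))
    (fun a ha => Ideal.Quotient.eq_zero_iff_mem.2 (Ideal.mem_map_of_mem _ ha))
  let σ' : R ⧸ J →+* A ⧸ K := Ideal.Quotient.lift J (Ideal.Quotient.factor hle) (fun a ha => by
    have h1 := Ideal.mem_map_of_mem (Ideal.Quotient.factor hle) ha
    rw [Ideal.map_map, Ideal.Quotient.factor_comp_mk, Ideal.map_quotient_self, Ideal.mem_bot] at h1
    exact h1)
  let pY : ∀ Y : Over (Spec (CommRingCat.of (R ⧸ J))),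
      (Over.map q).obj ((Over.map (qJ J)).obj Y) ⟶ P K := fun Y =>
    Over.homMk (Y.hom ≫ Spec.map (CommRingCat.ofHom σ)) (by
      show (Y.hom ≫ Spec.map _) ≫ Spec.map _ = (Y.hom ≫ Spec.map _) ≫ Spec.map _
      rw [Category.assoc, Category.assoc, ← Spec.map_comp, ← Spec.map_comp]
      rfl)
  let y₀ := Red.bc (qJ J) (Red.bc q M)
  let f₀ : Red.bc (qJ J) (Red.bc q M) ⟶ Red.bc (qJ J) (Red.bc q G) :=
    toBC (qJ J) (toBC q (push φ (pY y₀) (fromBC q (fromBC (qJ J) (𝟙 y₀)))))
  have hf₀ : ∀ {Y : Over (Spec (CommRingCat.of (R ⧸ J)))} (a : Y ⟶ y₀),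
      a ≫ f₀ = toBC (qJ J) (toBC q (push φ (pY Y) (fromBC q (fromBC (qJ J) a)))) := fun {Y} a => by
    simp only [f₀]
    rw [← toBC_naturality, ← toBC_naturality, comp_push φ _ (pY y₀) (pY Y), ← fromBC_comp, ← fromBC_comp,
      Category.comp_id]
  haveI : IsMonHom f₀ := Groth.Agent.MTDescent.isMonHom_of_points _ fun Y a b => by
    rw [hf₀, hf₀, hf₀, fromBC_mul, fromBC_mul, push_mul, toBC_mul, toBC_mul]
  haveI : Flat (Red.bc q G).hom := inferInstanceAs (Flat (Limits.pullback.snd G.hom q))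
  haveI : LocallyOfFinitePresentation (Red.bc q G).hom :=
    inferInstanceAs (LocallyOfFinitePresentation (Limits.pullback.snd G.hom q))
  haveI : IsFinite (Red.bc q M).hom := inferInstanceAs (IsFinite (Limits.pullback.snd M.hom q))
  haveI : Smooth (Red.bc q M).hom := inferInstanceAs (Smooth (Limits.pullback.snd M.hom q))
  haveI : IsClosedImmersion (qJ J) := IsClosedImmersion.spec_of_surjective _ Ideal.Quotient.mk_surjective
  haveI : Surjective (qJ J) := ⟨fun p => by
    show p ∈ Set.range (PrimeSpectrum.comap (Ideal.Quotient.mk J))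
    rw [range_comap_of_surjective _ _ Ideal.Quotient.mk_surjective, Ideal.mk_ker]
    intro x hx
    haveI : (PrimeSpectrum.asIdeal p).IsPrime := PrimeSpectrum.isPrime p
    exact (nilradical_le_prime (PrimeSpectrum.asIdeal p)) (mem_nilradical.2 (hnil x hx))⟩
  obtain ⟨φ', hφ', hφ'J, hφ'c, hφ'u⟩ := CentralLift.exists_unique_central_lift (qJ J)
    (MTBridge.isMultTypeFT_bc M q hM) f₀ fun Y a g => by
      rw [hf₀, ← toBC_fromBC (qJ J) g, ← toBC_mul, ← toBC_mul, ← toBC_fromBC q (fromBC (qJ J) g), ← toBC_mul,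
        ← toBC_mul, hc]
  refine ⟨φ', hφ', (central_iff φ').2 hφ'c, fun Z p p' x => ?_, fun u' _ hu' => hφ'u _ inferInstance ?_⟩
  · let Y : Over (Spec (CommRingCat.of (R ⧸ J))) := Over.mk (p.left ≫ Spec.map (CommRingCat.ofHom σ'))
    let ε : (Over.map q).obj ((Over.map (qJ J)).obj Y) ≅ Z := Over.isoMk (Iso.refl _) (by
      show 𝟙 _ ≫ Z.hom = ((p.left ≫ Spec.map _) ≫ Spec.map _) ≫ Spec.map _
      simp only [Category.id_comp, Category.assoc]
      rw [← Over.w p, ← Spec.map_comp, ← Spec.map_comp]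
      rfl)
    rw [← cancel_epi ε.hom, comp_push φ' ε.hom p' (mapToMk q _), comp_push φ ε.hom p (pY Y), push_self]
    generalize ε.hom ≫ x = x'
    have h1 : toBC q x' = fromBC (qJ J) (toBC (qJ J) (toBC q x')) := (fromBC_toBC _ _).symm
    rw [h1, ← fromBC_comp_map, hφ'J, hf₀, fromBC_toBC, fromBC_toBC, fromBC_toBC, fromBC_toBC]
  · subst hu'
    simp only [f₀]
    rw [push_map, MTBridge.toBC_comp, toBC_fromBC, MTBridge.toBC_comp, toBC_fromBC, Category.id_comp]

variable [IsLocalRing A] [IsNoetherianRing A] [IsAdicComplete (IsLocalRing.maximalIdeal A) A]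

theorem isNilpotent_mem_step (n : ℕ) :
    ∀ x ∈ (thick A n).map (Ideal.Quotient.mk (thick A (n + 1))), IsNilpotent x := fun x hx => by
  obtain ⟨k, hk⟩ := isNilpotent_step (A := A) n
  refine ⟨k, ?_⟩
  have := Ideal.pow_mem_pow hx k
  rwa [hk, Ideal.zero_eq_bot, Ideal.mem_bot] at this

/-- **Central homomorphisms extend uniquely.** -/
theorem exists_unique_central_hom (hM : SGA3x.IsMultTypeFT M) (m₀ : Ideal A) (hm₀ : m₀ = thick A 0)
    (u₀ : Red.bc (qJ m₀) M ⟶ Red.bc (qJ m₀) G) [IsMonHom u₀]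
    (hc₀ : ∀ (X : Over _) (x : X ⟶ Red.bc (qJ m₀) M) (g : X ⟶ Red.bc (qJ m₀) G), (x ≫ u₀) * g = g * (x ≫ u₀)) :
    ∃ u : M ⟶ G, IsMonHom u ∧ (Over.pullback (qJ m₀)).map u = u₀ ∧
      ∀ u' : M ⟶ G, IsMonHom u' → (Over.pullback (qJ m₀)).map u' = u₀ → u' = u := by
  subst hm₀
  classical
  let T : ℕ → Type u := fun n =>
    { φ : Red.bc (qJ (thick A n)) M ⟶ Red.bc (qJ (thick A n)) G // IsMonHom φ ∧ Central φ }
  have hstep : ∀ n (t : T n), ∃ t' : T (n + 1), (∀ (Z : Over (Spec (CommRingCat.of A))) (p : Z ⟶ P (thick A n))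
      (p' : Z ⟶ P (thick A (n + 1))) (x : Z ⟶ M), push t'.1 p' x = push t.1 p x) ∧
      ∀ u' : M ⟶ G, IsMonHom u' → (Over.pullback (qJ (thick A n))).map u' = t.1 →
        (Over.pullback (qJ (thick A (n + 1)))).map u' = t'.1 := fun n t => by
    haveI := t.2.1
    obtain ⟨φ', h1, h2, h3, h4⟩ := exists_central_step hM (thick_succ_le n) (isNilpotent_mem_step n) t.1 t.2.2
    exact ⟨⟨φ', h1, h2⟩, h3, h4⟩
  choose next hnext hnextu using hstep
  let t : ∀ n, T n := fun n => Nat.rec ⟨u₀, ‹_›, (central_iff u₀).2 hc₀⟩ next n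
  obtain ⟨u, hu⟩ := exists_of_family (X := M) (Y := G) (fun n {Z} p x => push (t n).1 p x)
    (fun n Z Z' b p p' x => comp_push _ b p p' x) (fun n Z p p' x => hnext n (t n) Z p p' x)
  refine ⟨u, Groth.Agent.MTDescent.isMonHom_of_points _ fun X a b => ?_, ?_, fun u' hu' hu'0 => ?_⟩
  · haveI : IsFinite (M ⊗ M).hom :=
      inferInstanceAs (IsFinite (Limits.pullback.fst M.hom M.hom ≫ M.hom))
    have key : (fst M M * snd M M) ≫ u = (fst M M ≫ u) * (snd M M ≫ u) := ext_of_forall _ _ fun n Z p z => by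
      haveI := (t n).2.1
      rw [MonObj.comp_mul, ← Category.assoc, MonObj.comp_mul, ← Category.assoc, ← Category.assoc, hu n Z p, hu n Z p,
        hu n Z p, push_mul]
    have h := congrArg (lift a b ≫ ·) key
    simp only [MonObj.comp_mul, ← Category.assoc, lift_fst, lift_snd] at h
    exact h
  · have h := hu 0 _ (mapToMk (qJ (thick A 0)) (Red.bc (qJ (thick A 0)) M)) (fromBC (qJ (thick A 0)) (𝟙 _))
    rw [push_self, toBC_fromBC, ← fromBC_comp_map, Category.id_comp, Category.id_comp] at h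
    have h2 := congrArg (toBC (qJ (thick A 0))) h
    rwa [toBC_fromBC, toBC_fromBC] at h2
  · have hall : ∀ n, (Over.pullback (qJ (thick A n))).map u' = (t n).1 := by
      intro n
      induction n with
      | zero => exact hu'0
      | succ n ih => exact hnextu n (t n) u' hu' ih
    refine ext_of_forall _ _ fun n Z p x => ?_
    rw [hu n Z p, ← hall, push_map]

/-- central on the closed fibre and connected fibres imply central -/
theorem central_of_connected (hM : SGA3x.IsMultTypeFT M) [QuasiCompact G.hom] [QuasiSeparated G.hom]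
    (hconn : ∀ s : (Spec (CommRingCat.of A)), _root_.IsConnected (G.hom ⁻¹' {s}))
    (m₀ : Ideal A) (hm₀ : m₀ = IsLocalRing.maximalIdeal A) (u : M ⟶ G) [IsMonHom u]
    (hc : ∀ (X : Over _) (x : X ⟶ Red.bc (qJ m₀) M) (g : X ⟶ Red.bc (qJ m₀) G),
      (x ≫ (Over.pullback (qJ m₀)).map u) * g = g * (x ≫ (Over.pullback (qJ m₀)).map u))
    (X : Over (Spec (CommRingCat.of A))) (x : X ⟶ M) (g : X ⟶ G) : (x ≫ u) * g = g * (x ≫ u) := by
  subst hm₀
  have hconn' : ∀ t : (Spec (CommRingCat.of A)),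
      ConnectedSpace ↥(Limits.pullback G.hom ((Spec (CommRingCat.of A)).fromSpecResidueField t)) := fun t => by
    haveI : ConnectedSpace ↥(G.hom ⁻¹' {t}) := isConnected_iff_connectedSpace.1 (hconn t)
    exact (G.hom.fiberHomeo t).symm.surjective.connectedSpace (G.hom.fiberHomeo t).symm.continuous
  let s : (Spec (CommRingCat.of A)) := IsLocalRing.closedPoint A
  let f := (Spec (CommRingCat.of A)).fromSpecResidueField s
  let χ := Spec.preimage f
  have hχ : ∀ a ∈ IsLocalRing.maximalIdeal A, χ.hom a = 0 := fun a ha => by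
    by_contra hne
    have h1 : f (IsLocalRing.closedPoint _) = s := Scheme.fromSpecResidueField_apply _ _
    rw [← Spec.map_preimage f] at h1
    change PrimeSpectrum.comap χ.hom (IsLocalRing.closedPoint _) = IsLocalRing.closedPoint A at h1
    have h2 : a ∈ (PrimeSpectrum.comap χ.hom (IsLocalRing.closedPoint _)).asIdeal := by rw [h1]; exact ha
    exact ((IsLocalRing.mem_maximalIdeal _).1 h2) (Ne.isUnit hne)
  let t : Spec ((Spec (CommRingCat.of A)).residueField s) ⟶ Spec (CommRingCat.of (A ⧸ IsLocalRing.maximalIdeal A)) :=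
    Spec.map (CommRingCat.ofHom (Ideal.Quotient.lift _ χ.hom hχ))
  have ht : t ≫ qJ (IsLocalRing.maximalIdeal A) = f := by
    rw [← Spec.map_comp, ← Spec.map_preimage f]
    rfl
  obtain ⟨U, hsU, hU⟩ := MTBridge.exists_central_nhd hM hconn' u s fun Y g' h' => by
    obtain ⟨g₁, rfl⟩ := ((Over.mapPullbackAdj f).homEquiv Y G).surjective g'
    obtain ⟨h₁, rfl⟩ := ((Over.mapPullbackAdj f).homEquiv Y M).surjective h'
    show toBC f g₁ * (toBC f h₁ ≫ _) = (toBC f h₁ ≫ _) * toBC f g₁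
    rw [← MTBridge.toBC_comp, ← toBC_mul, ← toBC_mul]
    congr 1
    let p : (Over.map f).obj Y ⟶ P (IsLocalRing.maximalIdeal A) := Over.homMk (Y.hom ≫ t) (by
      show (Y.hom ≫ t) ≫ qJ _ = Y.hom ≫ f
      rw [Category.assoc, ht])
    have := ((central_iff ((Over.pullback (qJ _)).map u)).2 hc) _ p h₁ g₁
    rwa [push_map] at this
  have hrange : ∀ y : X.left, X.hom y ∈ U := fun y =>
    (IsLocalRing.specializes_closedPoint (X.hom y : PrimeSpectrum A)).mem_open U.2 hsU
  exact (hU X (Over.homMk (IsOpenImmersion.lift U.ι X.hom (by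
    rintro _ ⟨y, rfl⟩
    exact ⟨⟨X.hom y, hrange y⟩, rfl⟩)) (IsOpenImmersion.lift_fac _ _ _)) g x).symm

end Groth.Agent.FormalHom
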