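import Groth.Agent.FormalHom.Basic
import Groth.Agent.MTBridge.NilHomBC
import Mathlib

/-!
# Morphisms out of a finite scheme over a complete local base, through the thickenings of the closed point
-/

set_option autoImplicit false
set_option linter.style.haveILetI false
set_option backward.isDefEq.respectTransparency false
set_option maxHeartbeats 1000000
set_option synthInstance.maxHeartbeats 400000

universe u

open CategoryTheory Limits MonoidalCategory CartesianMonoidalCategory AlgebraicGeometry IsLocalRing TensorProduct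
open Groth.Agent.MTBridge (qJ qJ_ext exists_factor_qJ)

noncomputable section

namespace Groth.Agent.FormalHom

variable {A : Type u} [CommRing A]

/-- the closed subscheme of an ideal -/
abbrev P (K : Ideal A) : Over (Spec (CommRingCat.of A)) := Over.mk (qJ K)

variable (B : Type u) [CommRing B] [Algebra A B]

/-- the spectrum of an algebra over the base -/
abbrev specX : Over (Spec (CommRingCat.of A)) := Over.mk (Spec.map (CommRingCat.ofHom (algebraMap A B)))

/-- its part over the closed subscheme of `K` -/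
abbrev quotX (K : Ideal A) : Over (Spec (CommRingCat.of A)) := specX (A := A) (B ⧸ K.map (algebraMap A B))

def quotHomX (K : Ideal A) : quotX B K ⟶ specX (A := A) B :=
  Over.homMk (Spec.map (CommRingCat.ofHom (Ideal.Quotient.mk (K.map (algebraMap A B))))) (by
    show Spec.map _ ≫ Spec.map _ = Spec.map _
    rw [← Spec.map_comp]; rfl)

def quotToP (K : Ideal A) : quotX B K ⟶ P K :=
  Over.homMk (Spec.map (CommRingCat.ofHom
    (Ideal.quotientMap (K.map (algebraMap A B)) (algebraMap A B) Ideal.le_comap_map))) (by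
    show Spec.map _ ≫ Spec.map _ = Spec.map _
    rw [← Spec.map_comp, ← CommRingCat.ofHom_comp, Ideal.quotientMap_comp_mk]; rfl)

/-- points over the closed subscheme come from the universal one -/
theorem exists_factor_quotX (K : Ideal A) {Z : Over (Spec (CommRingCat.of A))} (p : Z ⟶ P K) (x : Z ⟶ specX (A := A) B) :
    ∃ b : Z ⟶ quotX B K, b ≫ quotHomX B K = x := by
  let T₀ : Type u := (A ⧸ K) ⊗[A] B
  let θ : B ⧸ K.map (algebraMap A B) →+* T₀ := Ideal.Quotient.lift _
    ((Algebra.TensorProduct.includeRight : B →ₐ[A] T₀) : B →+* T₀) (fun a ha => by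
      have h1 := Ideal.mem_map_of_mem ((Algebra.TensorProduct.includeRight : B →ₐ[A] T₀) : B →+* T₀) ha
      rw [Ideal.map_map, AlgHom.comp_algebraMap, IsScalarTower.algebraMap_eq A (A ⧸ K) T₀, ← Ideal.map_map,
        Ideal.Quotient.algebraMap_eq, Ideal.map_quotient_self, Ideal.map_bot, Ideal.mem_bot] at h1
      exact h1)
  let k : Z.left ⟶ Spec (CommRingCat.of (B ⧸ K.map (algebraMap A B))) :=
    pullback.lift p.left x.left (by
      show p.left ≫ _ = x.left ≫ (specX (A := A) B).hom
      rw [Over.w]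
      exact Over.w p) ≫ (pullbackSpecIso A (A ⧸ K) B).hom ≫ Spec.map (CommRingCat.ofHom θ)
  have hk : k ≫ (quotHomX B K).left = x.left := by
    show k ≫ Spec.map (CommRingCat.ofHom (Ideal.Quotient.mk (K.map (algebraMap A B)))) = _
    simp only [k, Category.assoc]
    rw [← Spec.map_comp, ← CommRingCat.ofHom_comp,
      show θ.comp (Ideal.Quotient.mk (K.map (algebraMap A B))) =
        (Algebra.TensorProduct.includeRight : B →ₐ[A] T₀).toRingHom from RingHom.ext fun a => rfl]
    erw [pullbackSpecIso_hom_snd, pullback.lift_snd]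
  refine ⟨Over.homMk k ?_, Over.OverMorphism.ext hk⟩
  show k ≫ _ = Z.hom
  rw [← Over.w (quotHomX B K), ← Category.assoc, hk]
  exact Over.w x

variable {B}

/-- a finite scheme over an affine base is the spectrum of a finite algebra -/
theorem exists_specX_iso (X : Over (Spec (CommRingCat.of A))) [IsFinite X.hom] :
    ∃ (B : Type u) (_ : CommRing B) (_ : Algebra A B), Module.Finite A B ∧ Nonempty (specX (A := A) B ≅ X) := by
  haveI : IsAffine X.left := isAffine_of_isAffineHom X.hom
  let φ := Spec.preimage (X.left.isoSpec.inv ≫ X.hom)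
  letI : Algebra A Γ(X.left, ⊤) := φ.hom.toAlgebra
  have hφ : IsFinite (Spec.map φ) := by rw [Spec.map_preimage]; infer_instance
  refine ⟨Γ(X.left, ⊤), inferInstance, inferInstance, (IsFinite.SpecMap_iff _).1 hφ,
    ⟨Over.isoMk X.left.isoSpec.symm ?_⟩⟩
  show X.left.isoSpec.inv ≫ X.hom = Spec.map φ
  rw [Spec.map_preimage]

variable [IsLocalRing A] [IsNoetherianRing A] [IsAdicComplete (maximalIdeal A) A]

variable (A) in
/-- the ideals of the thickenings of the closed point -/
abbrev thick (n : ℕ) : Ideal A := maximalIdeal A ^ (n + 1)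

theorem thick_succ_le (n : ℕ) : thick A (n + 1) ≤ thick A n := Ideal.pow_le_pow_right (by omega)

/-- morphisms out of a finite scheme which agree on every thickening are equal -/
theorem ext_of_forall {X Y : Over (Spec (CommRingCat.of A))} [IsFinite X.hom] (f g : X ⟶ Y)
    (h : ∀ n (Z : Over (Spec (CommRingCat.of A))) (_ : Z ⟶ P (thick A n)) (x : Z ⟶ X), x ≫ f = x ≫ g) : f = g := by
  obtain ⟨B, _, _, _, ⟨e⟩⟩ := exists_specX_iso X
  rw [← cancel_epi e.hom]
  refine Over.OverMorphism.ext ((finite_bijective A B (fun n => ((maximalIdeal A) ^ n).map (algebraMap A B))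
    (fun n => rfl) Y.left).1 _ _ fun n => ?_)
  obtain ⟨ρ⟩ := exists_factor_qJ (Ideal.pow_le_pow_right (I := maximalIdeal A) (Nat.le_succ n))
  have := congrArg (fun m => m.left) (h n (quotX B (maximalIdeal A ^ n)) (quotToP B _ ≫ ρ) (quotHomX B _ ≫ e.hom))
  simpa [quotHomX, Category.assoc] using this

/-- a compatible family on the thickenings comes from a morphism -/
theorem exists_of_family {X Y : Over (Spec (CommRingCat.of A))} [IsFinite X.hom]
    (v : ∀ (n : ℕ) {Z : Over (Spec (CommRingCat.of A))}, (Z ⟶ P (thick A n)) → (Z ⟶ X) → (Z ⟶ Y))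
    (hnat : ∀ (n : ℕ) {Z Z' : Over (Spec (CommRingCat.of A))} (b : Z' ⟶ Z) (p : Z ⟶ P (thick A n))
      (p' : Z' ⟶ P (thick A n)) (x : Z ⟶ X), b ≫ v n p x = v n p' (b ≫ x))
    (hcomp : ∀ (n : ℕ) {Z : Over (Spec (CommRingCat.of A))} (p : Z ⟶ P (thick A n))
      (p' : Z ⟶ P (thick A (n + 1))) (x : Z ⟶ X), v (n + 1) p' x = v n p x) :
    ∃ f : X ⟶ Y, ∀ (n : ℕ) (Z : Over (Spec (CommRingCat.of A))) (p : Z ⟶ P (thick A n)) (x : Z ⟶ X),
      x ≫ f = v n p x := by
  obtain ⟨B, _, _, _, ⟨e⟩⟩ := exists_specX_iso X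
  have hstep : ∀ n, Nonempty (P (maximalIdeal A ^ n) ⟶ P (thick A n)) := fun n =>
    exists_factor_qJ (Ideal.pow_le_pow_right (Nat.le_succ n))
  let ρ := fun n => (hstep n).some
  let w : ∀ n, quotX B (maximalIdeal A ^ n) ⟶ Y := fun n =>
    v n (quotToP B _ ≫ ρ n) (quotHomX B _ ≫ e.hom)
  have hle : ∀ n, (maximalIdeal A ^ (n + 1)).map (algebraMap A B) ≤ (maximalIdeal A ^ n).map (algebraMap A B) :=
    fun n => Ideal.map_mono (Ideal.pow_le_pow_right (Nat.le_succ n))
  obtain ⟨f, hf⟩ := (finite_bijective A B (fun n => ((maximalIdeal A) ^ n).map (algebraMap A B))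
    (fun n => rfl) Y.left).2 (fun n => (w n).left) hle (fun n => by
      let b : quotX B (maximalIdeal A ^ n) ⟶ quotX B (maximalIdeal A ^ (n + 1)) :=
        Over.homMk (Spec.map (CommRingCat.ofHom (Ideal.Quotient.factor (hle n)))) (by
          show Spec.map _ ≫ Spec.map _ = Spec.map _
          rw [← Spec.map_comp]; rfl)
      have hb : b ≫ quotHomX B _ = quotHomX B _ := by
        apply Over.OverMorphism.ext
        show Spec.map _ ≫ Spec.map _ = Spec.map _
        rw [← Spec.map_comp, ← CommRingCat.ofHom_comp, Ideal.Quotient.factor_comp_mk]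
      have h1 : b ≫ w (n + 1) = w n := by
        obtain ⟨σ⟩ := exists_factor_qJ (thick_succ_le (A := A) n)
        simp only [w]
        rw [hnat (n + 1) b _ (quotToP B _ ≫ ρ n ≫ σ), reassoc_of% hb,
          hcomp n (quotToP B _ ≫ ρ n)]
      exact congrArg (fun m => m.left) h1)
  have hf' : f ≫ Y.hom = Spec.map (CommRingCat.ofHom (algebraMap A B)) :=
    (finite_bijective A B (fun n => ((maximalIdeal A) ^ n).map (algebraMap A B)) (fun n => rfl) _).1 _ _ fun n => by
      rw [← Category.assoc, hf n, Over.w]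
      exact (Over.w (quotHomX B (maximalIdeal A ^ n))).symm
  let f' : specX (A := A) B ⟶ Y := Over.homMk f hf'
  refine ⟨e.inv ≫ f', fun n Z p x => ?_⟩
  obtain ⟨b, hb⟩ := exists_factor_quotX B (thick A n) p (x ≫ e.inv)
  rw [← reassoc_of% hb]
  have h2 : quotHomX B (thick A n) ≫ f' = w (n + 1) := Over.OverMorphism.ext (hf (n + 1))
  obtain ⟨σ⟩ := exists_factor_qJ (thick_succ_le (A := A) n)
  rw [h2]
  simp only [w]
  rw [hnat (n + 1) b _ (p ≫ σ), reassoc_of% hb, Iso.inv_hom_id, Category.comp_id, hcomp n p]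

end Groth.Agent.FormalHom
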